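import Mathlib.RingTheory.PicardGroup
import Mathlib.RingTheory.DedekindDomain.Ideal.Lemmas
import Mathlib.RingTheory.Artinian.Ring
import Mathlib.RingTheory.HopkinsLevitzki
import Mathlib.RingTheory.Ideal.KrullsHeightTheorem
import Mathlib.RingTheory.Ideal.Operations
import Mathlib.LinearAlgebra.Pi

/-!
Steinitz isomorphism for invertible modules over a Dedekind domain.
-/

set_option autoImplicit false

namespace Groth.Agent.Steinitz

open TensorProduct

universe u v w

variable {R : Type u} [CommRing R] [IsDedekindDomain R]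

lemma finite_maximalSpectrum_quotient {I : Ideal R} (hI : I ≠ ⊥) : Finite (MaximalSpectrum (R ⧸ I)) := by
  have : Ring.KrullDimLE 0 (R ⧸ I) := Ring.krullDimLE_zero_iff.mpr fun J hJ => by
    have : (J.comap (Ideal.Quotient.mk I)).IsMaximal := by
      refine Ring.DimensionLEOne.maximalOfPrime (fun h => hI ?_) inferInstance
      refine le_bot_iff.1 (h ▸ fun x hx => ?_)
      simp [Ideal.mem_comap, (Ideal.Quotient.eq_zero_iff_mem).2 hx]
    exact (Ideal.map_comap_of_surjective _ Ideal.Quotient.mk_surjective J) ▸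
      (Ideal.map_eq_top_or_isMaximal_of_surjective _ Ideal.Quotient.mk_surjective this).resolve_left
        (by rw [Ideal.map_comap_of_surjective _ Ideal.Quotient.mk_surjective J]; exact hJ.ne_top)
  have : IsArtinianRing (R ⧸ I) := IsNoetherianRing.isArtinianRing_of_krullDimLE_zero
  infer_instance

/-- an invertible module has a functional whose image is coprime to a given nonzero ideal -/
lemma exists_coprime {I : Ideal R} (hI : I ≠ ⊥) (N : Type v) [AddCommGroup N] [Module R N]
    [Module.Invertible R N] :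
    ∃ ψ : N →ₗ[R] R, Function.Surjective ((Ideal.Quotient.mk I) ∘ ψ) := by
  have := finite_maximalSpectrum_quotient hI
  obtain ⟨g⟩ := (CommRing.Pic.mk_eq_one_iff (R := R ⧸ I) (M := (R ⧸ I) ⊗[R] N)).1 (Subsingleton.elim _ _)
  let f : N →ₗ[R] R ⧸ I := (g.toLinearMap.restrictScalars R) ∘ₗ TensorProduct.mk R (R ⧸ I) N 1
  have hf : Function.Surjective f :=
    g.surjective.comp (TensorProduct.mk_surjective R N (R ⧸ I) Ideal.Quotient.mk_surjective)
  obtain ⟨ψ, hψ⟩ := Module.projective_lifting_property (Algebra.linearMap R (R ⧸ I)) f Ideal.Quotient.mk_surjective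
  refine ⟨ψ, fun y => ?_⟩
  obtain ⟨x, hx⟩ := hf y
  exact ⟨x, (LinearMap.congr_fun hψ x).trans hx⟩

lemma nontrivial_of_invertible (N : Type v) [AddCommGroup N] [Module R N] [Module.Invertible R N] :
    Nontrivial N := by
  by_contra h
  have : Subsingleton N := not_nontrivial_iff_subsingleton.1 h
  have := (Module.Invertible.linearEquiv R N).symm.toEquiv.subsingleton
  exact not_subsingleton R this

theorem steinitz (M : Type v) [AddCommGroup M] [Module R M] [Module.Invertible R M]
    (N : Type w) [AddCommGroup N] [Module R N] [Module.Invertible R N] :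
    Nonempty ((M × N) ≃ₗ[R] R × (M ⊗[R] N)) := by
  obtain ⟨I, ⟨e⟩⟩ := Module.Invertible.exists_linearEquiv_ideal R M
  have hI : I ≠ ⊥ := fun h => by
    have := nontrivial_of_invertible (R := R) M
    have : Subsingleton I := by subst h; infer_instance
    exact not_subsingleton M e.toEquiv.subsingleton
  obtain ⟨ψ, hψ⟩ := exists_coprime hI N
  let f : (I × N) →ₗ[R] R := I.subtype.coprod ψ
  have hf : Function.Surjective f := fun r => by
    obtain ⟨x, hx⟩ := hψ (Ideal.Quotient.mk I r)
    refine ⟨(⟨r - ψ x, (Ideal.Quotient.eq.1 hx.symm)⟩, x), ?_⟩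
    simp [f]
  obtain ⟨s, hs⟩ := f.exists_rightInverse_of_surjective (LinearMap.range_eq_top.2 hf)
  let g : (I ⊗[R] N) →ₗ[R] I × N :=
    (TensorProduct.lift (LinearMap.mk₂ R (fun (i : I) (n : N) => (ψ n) • i)
      (fun i j n => smul_add _ _ _) (fun c i n => smul_comm _ _ _)
      (fun i m n => by rw [map_add, add_smul]) (fun c i n => by rw [map_smul, smul_assoc]))).prod
      (- TensorProduct.lift (LinearMap.mk₂ R (fun (i : I) (n : N) => (i : R) • n)
        (fun i j n => add_smul _ _ _) (fun c i n => smul_assoc _ _ _)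
        (fun i m n => smul_add _ _ _) (fun c i n => smul_comm _ _ _)))
  have hg : ∀ i n, g (i ⊗ₜ n) = (ψ n • i, -((i : R) • n)) := fun i n => rfl
  have hfg : f ∘ₗ g = 0 := TensorProduct.ext' fun i n => by
    simp [f, hg, mul_comm]
  have hginj : Function.Injective g := by
    let ι : (I ⊗[R] N) →ₗ[R] N := (TensorProduct.lid R N).toLinearMap ∘ₗ I.subtype.rTensor N
    have hι : Function.Injective ι :=
      (TensorProduct.lid R N).injective.comp
        (Module.Flat.rTensor_preserves_injective_linearMap I.subtype I.injective_subtype)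
    have he : (LinearMap.snd R I N) ∘ₗ g = -ι := TensorProduct.ext' fun i n => by
      simp [hg, ι]
    intro a b hab
    refine hι (neg_injective ?_)
    have := congrArg (fun z => (LinearMap.snd R I N) z) hab
    exact (LinearMap.congr_fun he a).symm.trans (this.trans (LinearMap.congr_fun he b))
  have hker : LinearMap.ker f = LinearMap.range g := by
    refine le_antisymm ?_ (LinearMap.range_le_ker_iff.2 hfg)
    rintro ⟨i, n⟩ h
    replace h : (i : R) + ψ n = 0 := h
    obtain ⟨x, hx⟩ := hψ 1
    have hi1 : 1 - ψ x ∈ I := Ideal.Quotient.eq.1 ((Ideal.Quotient.mk I).map_one.trans hx.symm)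
    refine ⟨i ⊗ₜ x + ⟨1 - ψ x, hi1⟩ ⊗ₜ (-n), ?_⟩
    have hp : ψ n = -(i : R) := eq_neg_of_add_eq_zero_right h
    ext
    · simp [hg, hp]
      ring
    · simp only [map_add, hg, Prod.snd_add]
      rw [smul_neg, neg_neg, sub_smul, one_smul]
      have : (i : R) • x = -(ψ n • x) := by rw [hp, neg_smul, neg_neg]
      rw [this, neg_neg]
      have key : ψ n • x = ψ x • n := by
        have hc := Module.Invertible.tmul_comm (R := R) (M := N) (m₁ := x) (m₂ := n)
        have := congrArg ((TensorProduct.lid R N).toLinearMap ∘ₗ ψ.rTensor N) hc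
        simpa using this.symm
      rw [key]
      abel
  have hdec : ((LinearMap.ker f) × R) ≃ₗ[R] (I × N) := by
    refine LinearEquiv.ofBijective ((LinearMap.ker f).subtype.coprod s) ⟨?_, fun z => ?_⟩
    · rw [← LinearMap.ker_eq_bot, LinearMap.ker_eq_bot']
      rintro ⟨a, r⟩ h
      have h1 := congrArg f h
      have h2 : f (s r) = r := LinearMap.congr_fun hs r
      have hr : r = 0 := by simpa [h2, LinearMap.mem_ker.1 a.2] using h1
      subst hr
      simpa using h
    · refine ⟨(⟨z - s (f z), ?_⟩, f z), by simp⟩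
      have h2 : f (s (f z)) = f z := LinearMap.congr_fun hs (f z)
      simp [h2]
  exact ⟨(e.prodCongr (LinearEquiv.refl R N)).trans (hdec.symm.trans
    (((LinearEquiv.ofEq _ _ hker).trans ((LinearEquiv.ofInjective g hginj).symm.trans
      (TensorProduct.congr e.symm (LinearEquiv.refl R N)))).prodCongr (LinearEquiv.refl R R) |>.trans
        (LinearEquiv.prodComm R _ _)))⟩

theorem nonempty_pow (N : Type v) [AddCommGroup N] [Module R N] [Module.Invertible R N] (k : ℕ) :
    Nonempty ((Fin (k + 1) → N) ≃ₗ[R] (Fin k → R) × (CommRing.Pic.mk R N ^ (k + 1) : CommRing.Pic R)) := by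
  induction k with
  | zero =>
    obtain ⟨e⟩ := (CommRing.Pic.mk_eq_iff (R := R) (M := N)).1 (pow_one _).symm
    exact ⟨(LinearEquiv.funUnique (Fin 1) R N).trans (e.trans (LinearEquiv.uniqueProd (R := R) (M₂ := Fin 0 → R)).symm)⟩
  | succ k ih =>
    obtain ⟨e⟩ := ih
    obtain ⟨st⟩ := steinitz (R := R) N (CommRing.Pic.mk R N ^ (k + 1) : CommRing.Pic R)
    obtain ⟨p⟩ := (CommRing.Pic.mk_eq_iff (R := R)
      (M := N ⊗[R] (CommRing.Pic.mk R N ^ (k + 1) : CommRing.Pic R))
      (N := CommRing.Pic.mk R N ^ (k + 1 + 1))).1 (by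
        rw [CommRing.Pic.mk_tensor, CommRing.Pic.mk_eq_self, pow_succ' _ (k + 1)])
    let P := (CommRing.Pic.mk R N ^ (k + 1) : CommRing.Pic R)
    let a := (Fin.consLinearEquiv R (fun _ : Fin (k + 1 + 1) => N)).symm
    let b := (LinearEquiv.refl R N).prodCongr e
    let c : (N × (Fin k → R) × P) ≃ₗ[R] (Fin k → R) × N × P :=
      (LinearEquiv.prodAssoc R N (Fin k → R) P).symm.trans
        (((LinearEquiv.prodComm R N (Fin k → R)).prodCongr (LinearEquiv.refl R P)).trans
          (LinearEquiv.prodAssoc R (Fin k → R) N P))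
    let d := (LinearEquiv.refl R (Fin k → R)).prodCongr (st.trans ((LinearEquiv.refl R R).prodCongr p))
    let P' := (CommRing.Pic.mk R N ^ (k + 1 + 1) : CommRing.Pic R)
    let f : ((Fin k → R) × R × P') ≃ₗ[R] (Fin (k + 1) → R) × P' :=
      (LinearEquiv.prodAssoc R (Fin k → R) R P').symm.trans
        (((LinearEquiv.prodComm R (Fin k → R) R).trans
          (Fin.consLinearEquiv R (fun _ : Fin (k + 1) => R))).prodCongr (LinearEquiv.refl R P'))
    exact ⟨a.trans (b.trans (c.trans (d.trans f)))⟩

end Groth.Agent.Steinitz
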